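import Cfsg.Agent.KGV.I.Idem
import Mathlib.LinearAlgebra.Matrix.Charpoly.FiniteField
import Mathlib.LinearAlgebra.Matrix.Determinant.Basic

set_option autoImplicit false

namespace CL.M67

open CL.KGV.Idem

variable {K : Type} [Field K] [Fintype K] {n : Type} [Fintype n] [DecidableEq n]

noncomputable def rkM (E : Matrix n n K) : ℕ := rk (Matrix.toLinAlgEquiv' E)

omit [Fintype K] in
theorem rkM_le (E : Matrix n n K) : rkM E ≤ Fintype.card n := by
  unfold rkM rk
  simpa using Submodule.finrank_le (LinearMap.range (Matrix.toLinAlgEquiv' E))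

omit [Fintype K] in
theorem rkM_zero : rkM (0 : Matrix n n K) = 0 := by
  simp [rkM, rk]

omit [Fintype K] in
theorem detM (z : Matrix n n K) : LinearMap.det (Matrix.toLinAlgEquiv' z) = z.det := by
  rw [← LinearMap.det_toLin' z]; rfl

omit [Fintype K] in
theorem detM_sum {ι : Type*} [Fintype ι] (E : ι → Matrix n n K) (hE : OrthogonalIdempotents E)
    (c : ι → K) : (∑ i, c i • E i + (1 - ∑ i, E i)).det = ∏ i, c i ^ rkM (E i) := by
  have h := det_sum (fun i => Matrix.toLinAlgEquiv' (E i))
    (hE.map (Matrix.toLinAlgEquiv' (R := K) (n := n)).toRingEquiv.toRingHom) c Finset.univ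
  rw [← detM]
  simp only [map_add, map_sub, map_sum, map_smul, map_one]
  exact h

omit [Fintype K] in
theorem detM_one (E : Matrix n n K) (hE : IsIdempotentElem E) (c : K) :
    (c • E + (1 - E)).det = c ^ rkM E := by
  have h := det_smul_add (Matrix.toLinAlgEquiv' E)
    (hE.map (Matrix.toLinAlgEquiv' (R := K) (n := n))) c
  rw [← detM]
  simp only [map_add, map_sub, map_smul, map_one]
  exact h

omit [Fintype K] in
theorem traceM (E : Matrix n n K) (hE : IsIdempotentElem E) : E.trace = (rkM E : K) := by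
  have h := trace_idem (Matrix.toLinAlgEquiv' E) (hE.map (Matrix.toLinAlgEquiv' (R := K) (n := n)))
  rw [← Matrix.trace_toLin'_eq]
  exact h

theorem rkM_map (σ : K →+* K) (hn : Fintype.card n < Fintype.card K - 1) (E : Matrix n n K)
    (hE : IsIdempotentElem E) : rkM (σ.mapMatrix E) = rkM E := by
  classical
  obtain ⟨γ, hγ⟩ := IsCyclic.exists_ofOrder_eq_natCard (α := Kˣ)
  have hs : Function.Surjective σ := Finite.surjective_of_injective σ.injective
  obtain ⟨c, hc⟩ := hs γ
  have h1 := detM_one E hE c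
  have h2 := detM_one _ (hE.map σ.mapMatrix) (γ : K)
  have h3 : σ.mapMatrix (c • E + (1 - E)) = (γ : K) • σ.mapMatrix E + (1 - σ.mapMatrix E) := by
    rw [map_add, map_sub, map_one, ← hc]
    congr 1
    ext i j
    simp
  rw [← h3, ← RingHom.map_det, h1, map_pow, hc] at h2
  have h4 : γ ^ rkM E = γ ^ rkM (σ.mapMatrix E) := Units.ext (by simpa using h2)
  rw [pow_eq_pow_iff_modEq, hγ, Nat.card_units, Nat.card_eq_fintype_card] at h4
  exact (Nat.ModEq.eq_of_lt_of_lt h4 ((rkM_le _).trans_lt hn) ((rkM_le _).trans_lt hn)).symm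

/-- determinant of `y` on the `b`-eigenspace of `z` -/
noncomputable def D (y z : Matrix n n K) (b : K) : K := (y * ep z b + (1 - ep z b)).det

noncomputable def Lam (l : K → ℕ) (z y : Matrix n n K) : K := ∏ b, D y z b ^ l b

theorem cut_mul {A : Type*} [Ring A] {e y₁ y₂ : A} (he : IsIdempotentElem e) (h : Commute y₂ e) :
    (y₁ * e + (1 - e)) * (y₂ * e + (1 - e)) = y₁ * y₂ * e + (1 - e) := by
  have h1 : e * e = e := he
  have h2 : e * y₂ = y₂ * e := h.eq.symm
  have h3 : e * (y₂ * e) = y₂ * e := by rw [← mul_assoc, h2, mul_assoc, h1]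
  simp only [add_mul, mul_add, sub_mul, mul_sub, one_mul, mul_one, mul_assoc, h1, h3]
  abel

theorem cut_pow {A : Type*} [Ring A] {e y : A} (he : IsIdempotentElem e) (h : Commute y e) (k : ℕ) :
    (y * e + (1 - e)) ^ k = y ^ k * e + (1 - e) := by
  induction k with
  | zero => simp
  | succ k ih => rw [pow_succ, ih, cut_mul he h, pow_succ]

theorem D_mul {z y₁ y₂ : Matrix n n K} (hz : z ^ Fintype.card K = z) (h : Commute y₂ z) (b : K) :
    D (y₁ * y₂) z b = D y₁ z b * D y₂ z b := by
  unfold D
  rw [← Matrix.det_mul, cut_mul ((coi hz).idem b) (commute_ep h b)]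

theorem Lam_mul (l : K → ℕ) {z y₁ y₂ : Matrix n n K} (hz : z ^ Fintype.card K = z)
    (h : Commute y₂ z) : Lam l z (y₁ * y₂) = Lam l z y₁ * Lam l z y₂ := by
  simp only [Lam, D_mul hz h, mul_pow, Finset.prod_mul_distrib]

theorem Lam_one (l : K → ℕ) (z : Matrix n n K) : Lam l z 1 = 1 := by
  simp [Lam, D]

theorem Lam_conj (l : K → ℕ) (z y h h' : Matrix n n K) (h1 : h * h' = 1) (h2 : h' * h = 1) :
    Lam l (h * z * h') (h * y * h') = Lam l z y := by
  let φ : Matrix n n K →+* Matrix n n K :=
    { toFun := fun x => h * x * h'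
      map_one' := by rw [mul_one, h1]
      map_mul' := fun a b => by
        rw [show h * a * h' * (h * b * h') = h * a * (h' * h) * b * h' by simp only [mul_assoc], h2]
        simp only [mul_assoc, one_mul]
      map_zero' := by simp
      map_add' := fun a b => by simp only [mul_add, add_mul] }
  have hφ : ∀ x, φ x = h * x * h' := fun _ => rfl
  have hd : ∀ x, (φ x).det = x.det := fun x => by
    rw [hφ, Matrix.det_mul, Matrix.det_mul, mul_right_comm, ← Matrix.det_mul, h1, Matrix.det_one, one_mul]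
  refine Finset.prod_congr rfl fun b _ => ?_
  congr 1
  unfold D
  have he := map_ep (F := K) φ id (fun a => by
    rw [hφ, id, (Algebra.commute_algebraMap_right a h).eq, mul_assoc, h1, mul_one]) z b
  rw [← hφ, ← hφ, ← hd (y * ep z b + (1 - ep z b)), map_add, map_mul, map_sub, map_one, he]
  rfl

theorem D_pow {z y : Matrix n n K} (hz : z ^ Fintype.card K = z) (h : Commute y z) (b : K) :
    D (y ^ Fintype.card K) z b = D y z b := by
  unfold D
  rw [← cut_pow ((coi hz).idem b) (commute_ep h b), Matrix.det_pow, FiniteField.pow_card]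

theorem ep_zero {z : Matrix n n K} (hz : z ^ Fintype.card K = z) (hu : IsUnit z) : ep z (0 : K) = 0 := by
  have h := mul_ep hz (0 : K)
  rw [zero_smul] at h
  exact hu.mul_right_eq_zero.1 h

theorem pow_sum {ι A : Type*} [Fintype ι] [Ring A] [Algebra K A] (E : ι → A)
    (hE : CompleteOrthogonalIdempotents E) (f : ι → K) (g : ι → K) :
    (∑ i, f i • E i) * (∑ i, g i • E i) = ∑ i, (f i * g i) • E i := by
  classical
  rw [Finset.sum_mul]
  refine Finset.sum_congr rfl fun i _ => ?_
  rw [Finset.mul_sum, Finset.sum_eq_single i]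
  · rw [smul_mul_smul_comm, (hE.idem i).eq]
  · intro j _ hj
    rw [smul_mul_smul_comm, hE.ortho (Ne.symm hj), smul_zero]
  · simp

theorem pow_sum' {ι A : Type*} [Fintype ι] [Ring A] [Algebra K A] (E : ι → A)
    (hE : CompleteOrthogonalIdempotents E) (f : ι → K) (k : ℕ) :
    (∑ i, f i • E i) ^ k = ∑ i, (f i ^ k) • E i := by
  induction k with
  | zero => simp [hE.complete]
  | succ k ih => rw [pow_succ, ih, pow_sum E hE]; simp only [pow_succ]

theorem ep_sum {ι A : Type*} [Fintype ι] [Ring A] [Algebra K A] [DecidableEq K] (E : ι → A)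
    (hE : CompleteOrthogonalIdempotents E) (f : ι → K) (c : K) :
    ep (∑ i, f i • E i) c = ∑ i, if f i = c then E i else 0 := by
  have h1 : (∑ i, f i • E i) - algebraMap K A c = ∑ i, (f i - c) • E i := by
    simp only [sub_smul, Finset.sum_sub_distrib]
    rw [← Finset.smul_sum, hE.complete, Algebra.algebraMap_eq_smul_one]
  have hc : Fintype.card K - 1 ≠ 0 := by
    have := Fintype.one_lt_card (α := K); omega
  unfold ep
  rw [h1, pow_sum' E hE]
  conv_lhs => rw [← hE.complete]
  rw [← Finset.sum_sub_distrib]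
  refine Finset.sum_congr rfl fun i _ => ?_
  split_ifs with h
  · simp [h, hc]
  · simp [FiniteField.pow_card_sub_one_eq_one _ (sub_ne_zero.2 h)]

end CL.M67
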