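import Cfsg.Agent.KGV.M67.A

set_option autoImplicit false

namespace CL.M67

open CL.KGV.Idem

variable {K : Type} [Field K] [Fintype K] {n : Type} [Fintype n] [DecidableEq n]

/-- joint idempotents -/
def E (s t : Matrix n n K) (ab : K × K) : Matrix n n K := ep s ab.1 * ep t ab.2

noncomputable def mm (s t : Matrix n n K) (a b : K) : ℕ := rkM (E s t (a, b))

noncomputable def R (ρ : K → K → K) (s t : Matrix n n K) : Matrix n n K :=
  ∑ ab : K × K, ρ ab.1 ab.2 • E s t ab

section
variable {s t : Matrix n n K} (hs : s ^ Fintype.card K = s) (ht : t ^ Fintype.card K = t)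
  (h : Commute s t)
include hs ht h

theorem coiE : CompleteOrthogonalIdempotents (E s t) := coi2 hs ht h

theorem orth1 (b : K) : OrthogonalIdempotents fun a => E s t (a, b) :=
  ⟨fun a => (coiE hs ht h).idem _, fun _ _ hne => (coiE hs ht h).ortho fun e => hne (Prod.ext_iff.1 e).1⟩

theorem orth2 (a : K) : OrthogonalIdempotents fun b => E s t (a, b) :=
  ⟨fun b => (coiE hs ht h).idem _, fun _ _ hne => (coiE hs ht h).ortho fun e => hne (Prod.ext_iff.1 e).2⟩

omit ht h in
theorem sumE1 (b : K) : ∑ a, E s t (a, b) = ep t b := by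
  simp only [E]
  rw [← Finset.sum_mul, (coi hs).complete, one_mul]

omit hs h in
theorem sumE2 (a : K) : ∑ b, E s t (a, b) = ep s a := by
  simp only [E]
  rw [← Finset.mul_sum, (coi ht).complete, mul_one]

theorem D_left (b : K) : D s t b = ∏ a, a ^ mm s t a b := by
  have h1 : s * ep t b = ∑ a, a • E s t (a, b) := by
    simp only [E, ← smul_mul_assoc]
    rw [← Finset.sum_mul, sum_ep hs]
  unfold D
  rw [h1]
  conv_lhs => rw [← sumE1 hs b (s := s) (t := t)]
  exact detM_sum _ (orth1 hs ht h b) _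

theorem R_mul (ρ : K → K → K) (a : K) : R ρ s t * ep s a = ∑ b, ρ a b • E s t (a, b) := by
  classical
  unfold R
  rw [Fintype.sum_prod_type, Finset.sum_mul, Finset.sum_eq_single a]
  · rw [Finset.sum_mul]
    refine Finset.sum_congr rfl fun b _ => ?_
    simp only [E]
    rw [smul_mul_assoc, mul_assoc, ← (ep_commute h a b).eq, ← mul_assoc, ((coi hs).idem a).eq]
  · intro c _ hc
    rw [Finset.sum_mul]
    refine Finset.sum_eq_zero fun b _ => ?_
    simp only [E]
    have h0 : ep s c * ep s a = 0 := (coi hs).ortho hc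
    rw [smul_mul_assoc, mul_assoc, ← (ep_commute h a b).eq, ← mul_assoc, h0, zero_mul, smul_zero]
  · simp

theorem D_right (ρ : K → K → K) (a : K) : D (R ρ s t) s a = ∏ b, ρ a b ^ mm s t a b := by
  unfold D
  rw [R_mul hs ht h]
  conv_lhs => rw [← sumE2 ht a (s := s) (t := t)]
  exact detM_sum _ (orth2 hs ht h a) _

theorem R_pow (ρ : K → K → K) : R ρ s t ^ Fintype.card K = R ρ s t := by
  unfold R
  rw [pow_sum' _ (coiE hs ht h)]
  simp only [FiniteField.pow_card]

theorem R_trace (ρ : K → K → K) : (R ρ s t).trace = ∑ a, ∑ b, (mm s t a b : K) * ρ a b := by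
  unfold R
  rw [Matrix.trace_sum, Fintype.sum_prod_type]
  refine Finset.sum_congr rfl fun a _ => Finset.sum_congr rfl fun b _ => ?_
  rw [Matrix.trace_smul, traceM _ ((coiE hs ht h).idem _), smul_eq_mul, mul_comm]
  rfl

omit ht h in
theorem R_snd (ht : t ^ Fintype.card K = t) : R (fun _ b => b) s t = t := by
  unfold R
  rw [Fintype.sum_prod_type_right]
  simp only [← Finset.smul_sum, sumE1 hs]
  exact sum_ep ht

theorem R_unit (hu : IsUnit t) (ρ : K → K → K) (hρ : ∀ a b, b ≠ 0 → ρ a b ≠ 0) :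
    R ρ s t ^ (Fintype.card K - 1) = 1 := by
  unfold R
  rw [pow_sum' _ (coiE hs ht h), ← (coiE hs ht h).complete]
  refine Finset.sum_congr rfl fun ab _ => ?_
  by_cases hb : ab.2 = 0
  · simp [E, hb, ep_zero ht hu]
  · rw [FiniteField.pow_card_sub_one_eq_one _ (hρ _ _ hb), one_smul]

theorem ep_R (ρ : K → K → K) (hρ : ∀ a, Function.Injective (ρ a)) (a b : K) :
    ep s a * ep (R ρ s t) (ρ a b) = E s t (a, b) := by
  classical
  unfold R
  rw [ep_sum _ (coiE hs ht h), Finset.mul_sum, Finset.sum_eq_single (a, b)]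
  · simp only [if_true, E]
    rw [← mul_assoc, ((coi hs).idem a).eq]
  · intro cd _ hne
    split_ifs with h1
    · by_cases h2 : cd.1 = a
      · exact absurd (Prod.ext h2 (hρ a (by rw [← h1, h2]))) hne
      · have h0 : ep s a * ep s cd.1 = 0 := (coi hs).ortho (Ne.symm h2)
        simp only [E]
        rw [← mul_assoc, h0, zero_mul]
    · rw [mul_zero]
  · simp

end

theorem R_commute {s t z : Matrix n n K} (h1 : Commute z s) (h2 : Commute z t) (ρ : K → K → K) :
    Commute z (R ρ s t) :=
  Commute.sum_right _ _ _ fun ab _ =>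
    ((commute_ep h1 ab.1).mul_right (commute_ep h2 ab.2)).smul_right _

theorem R_inj {s t t' : Matrix n n K} (hs : s ^ Fintype.card K = s) (ht : t ^ Fintype.card K = t)
    (h : Commute s t) (ht' : t' ^ Fintype.card K = t') (h' : Commute s t') (ρ : K → K → K)
    (hρ : ∀ a, Function.Injective (ρ a)) (e : R ρ s t = R ρ s t') : t = t' := by
  rw [← R_snd hs ht, ← R_snd hs ht']
  refine Finset.sum_congr rfl fun ab _ => ?_
  rw [show E s t ab = E s t' ab by
    rw [← ep_R hs ht h ρ hρ ab.1 ab.2, ← ep_R hs ht' h' ρ hρ ab.1 ab.2, e]]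

theorem map_E (σ : K →+* K) {s t : Matrix n n K} (hs : σ.mapMatrix s = s) (ht : σ.mapMatrix t = t)
    (a b : K) : σ.mapMatrix (E s t (a, b)) = E s t (σ a, σ b) := by
  have hφ : ∀ a, σ.mapMatrix (algebraMap K (Matrix n n K) a) = algebraMap K (Matrix n n K) (σ a) := by
    intro a
    ext i j
    by_cases hij : i = j <;> simp [Matrix.algebraMap_matrix_apply, hij]
  simp only [E]
  have h1 := map_ep (F := K) (σ.mapMatrix (m := n)) (fun x => σ x) hφ s a
  have h2 := map_ep (F := K) (σ.mapMatrix (m := n)) (fun x => σ x) hφ t b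
  rw [map_mul, h1, h2, hs, ht]

theorem map_R (σ : K →+* K) {s t : Matrix n n K} (hs : σ.mapMatrix s = s) (ht : σ.mapMatrix t = t)
    (ρ : K → K → K) (hρ : ∀ a b, ρ (σ a) (σ b) = σ (ρ a b)) : σ.mapMatrix (R ρ s t) = R ρ s t := by
  have hb : Function.Bijective σ := Finite.injective_iff_bijective.1 σ.injective
  unfold R
  rw [map_sum]
  refine Fintype.sum_bijective (Prod.map σ σ) (hb.prodMap hb) _ _ fun ab => ?_
  have h1 : ∀ (c : K) (z : Matrix n n K), σ.mapMatrix (c • z) = σ c • σ.mapMatrix z := by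
    intro c z; ext i j; simp
  rw [h1, map_E σ hs ht ab.1 ab.2, ← hρ]
  rfl

theorem trace_eq {u z : Matrix n n K} (hu : u ^ Fintype.card K = 1) (hz : z ^ Fintype.card K = z)
    (h : Commute u z) : (u * z).trace = z.trace := by
  have h1 := FiniteField.trace_pow_card (u * z)
  rw [h.mul_pow, hu, hz, one_mul, FiniteField.pow_card] at h1
  exact h1.symm

end CL.M67
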