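import Cfsg.Agent.KGV.M67.B
import Cfsg.Agent.KGV.Big
import Cfsg.Agent.KGV.NT
import Cfsg.Agent.KGV.Tr
import Mathlib.NumberTheory.MulChar.Basic
import Mathlib.FieldTheory.Finite.GaloisField

set_option autoImplicit false

namespace CL.M67

open CL.KGV.Idem

/-- the field part -/
def PairSt (p : ℕ) (K : Type) [Field K] [Fintype K] : Prop :=
  ∃ (l : K → ℕ) (ρ : K → K → K), (∀ a b, ρ (a ^ p) (b ^ p) = ρ a b ^ p) ∧
    (∀ a, Function.Injective (ρ a)) ∧ (∀ a b, ∃ i, ρ a b = b ^ p ^ i) ∧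
    (∀ m : K → K → ℕ, (∀ a b, m (a ^ p) (b ^ p) = m a b) → (∀ b, m 0 b = 0) → (∀ a, m a 0 = 0) →
      ∏ a, ∏ b, a ^ (l b * m a b) = ∏ a, ∏ b, ρ a b ^ (l a * m a b)) ∧
    (∀ m : K → K → ℕ, (∀ a b, m (a ^ p) (b ^ p) = m a b) → (∀ b, m 0 b = 0) → (∀ a, m a 0 = 0) →
      ∑ a, ∑ b, (m a b : K) * ρ a b = ∑ a, ∑ b, (m a b : K) * b) ∧ l 1 = 0 ∧
    ∀ a : K, a ≠ 0 → a ≠ 1 → ∃ (j : ℕ) (b : K), b ≠ 0 ∧
      (∀ k, (a ^ p ^ j) ^ p ^ k = a ^ p ^ j → b ^ p ^ k = b) ∧ b ^ l (a ^ p ^ j) ≠ 1 ∧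
      ∀ i, a ^ p ^ i ≠ a ^ p ^ j → l (a ^ p ^ i) = 0

theorem iter {Γ : Type*} [Monoid Γ] (y : Γ) (q : ℕ) (h : y ^ q = y) (i : ℕ) : y ^ q ^ i = y := by
  induction i with
  | zero => simp
  | succ i ih => rw [pow_succ, pow_mul, ih, h]

variable {p : ℕ} [Fact p.Prime] {K : Type} [Field K] [Fintype K] [Algebra (ZMod p) K] {n : ℕ}

/-- extension of scalars -/
noncomputable def J0 (K : Type) [Field K] [Algebra (ZMod p) K] :
    Matrix (Fin n) (Fin n) (ZMod p) →+* Matrix (Fin n) (Fin n) K := (algebraMap (ZMod p) K).mapMatrix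

noncomputable def J (K : Type) [Field K] [Algebra (ZMod p) K] :
    GL (Fin n) (ZMod p) →* Matrix (Fin n) (Fin n) K :=
  (J0 K).toMonoidHom.comp (Units.coeHom _)

omit [Fintype K] in
theorem J_eq (x : GL (Fin n) (ZMod p)) : J K x = J0 K x.1 := rfl

omit [Fintype K] in
theorem J0_inj : Function.Injective (J0 (p := p) (n := n) K) :=
  fun _ _ h => Matrix.map_injective (algebraMap (ZMod p) K).injective h

omit [Fintype K] in
theorem J_inj : Function.Injective (J (p := p) (n := n) K) :=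
  fun _ _ h => Units.ext (J0_inj h)

omit [Fintype K] in
theorem J_unit (x : GL (Fin n) (ZMod p)) : IsUnit (J K x) := (Group.isUnit x).map (J K)

omit [Fintype K] in
theorem J_frob [CharP K p] (x : GL (Fin n) (ZMod p)) : (frobenius K p).mapMatrix (J K x) = J K x := by
  ext i j
  show (algebraMap (ZMod p) K (x.1 i j)) ^ p = algebraMap (ZMod p) K (x.1 i j)
  rw [← map_pow, ZMod.pow_card]

omit [Fintype K] in
theorem desc_unit [CharP K p] (z : Matrix (Fin n) (Fin n) K) (hz : (frobenius K p).mapMatrix z = z)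
    (hu : IsUnit z.det) : ∃ y : GL (Fin n) (ZMod p), J K y = z := by
  obtain ⟨y, hy⟩ := CL.KGV.Big.desc p z hz
  have h1 : J0 K y = z := hy
  have h2 : y.det ≠ 0 := by
    intro h0
    have := (algebraMap (ZMod p) K).map_det y
    rw [h0, map_zero] at this
    have h3 : (algebraMap (ZMod p) K).mapMatrix y = z := hy
    rw [h3] at this
    exact hu.ne_zero this.symm
  exact ⟨Matrix.GeneralLinearGroup.mkOfDetNeZero y h2, h1⟩

omit [Fintype K] in
theorem J_trace (x y : GL (Fin n) (ZMod p)) (h : (J K x).trace = (J K y).trace) :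
    x.1.trace = y.1.trace := by
  apply (algebraMap (ZMod p) K).injective
  have e : ∀ z : GL (Fin n) (ZMod p), algebraMap (ZMod p) K z.1.trace = (J K z).trace := fun z => by
    simp [Matrix.trace, J_eq, J0]
  rw [e, e, h]

theorem reindex [CharP K p] (hn : n < Fintype.card K - 1) (l : K → ℕ) (ρ : K → K → K)
    (h1 : ∀ a b, ρ (a ^ p) (b ^ p) = ρ a b ^ p) (h2 : ∀ a, Function.Injective (ρ a))
    (h3 : ∀ a b, ∃ i, ρ a b = b ^ p ^ i)
    (h4 : ∀ m : K → K → ℕ, (∀ a b, m (a ^ p) (b ^ p) = m a b) → (∀ b, m 0 b = 0) → (∀ a, m a 0 = 0) →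
      ∏ a, ∏ b, a ^ (l b * m a b) = ∏ a, ∏ b, ρ a b ^ (l a * m a b))
    (h5 : ∀ m : K → K → ℕ, (∀ a b, m (a ^ p) (b ^ p) = m a b) → (∀ b, m 0 b = 0) → (∀ a, m a 0 = 0) →
      ∑ a, ∑ b, (m a b : K) * ρ a b = ∑ a, ∑ b, (m a b : K) * b)
    (hQ : ∀ x : GL (Fin n) (ZMod p), (x ^ Fintype.card K) ^ Fintype.card K = x ^ Fintype.card K)
    (g : GL (Fin n) (ZMod p)) (hg : g ^ Fintype.card K = g) :
    ∃ r : Equiv.Perm {x : GL (Fin n) (ZMod p) // x * g = g * x},
      ∀ x, Lam l (J K (x.1 ^ Fintype.card K)) (J K g) = Lam l (J K g) (J K (r x).1) ∧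
        (r x).1.1.trace = x.1.1.trace := by
  set Q := Fintype.card K with hQdef
  have hs : J K g ^ Q = J K g := by rw [← map_pow, hg]
  have ht : ∀ x : GL (Fin n) (ZMod p), J K (x ^ Q) ^ Q = J K (x ^ Q) := fun x => by
    rw [← map_pow, hQ]
  have hc : ∀ x : {x : GL (Fin n) (ZMod p) // x * g = g * x}, Commute (J K g) (J K (x.1 ^ Q)) :=
    fun x => (Commute.pow_right (show Commute g x.1 from x.2.symm) Q).map (J K)
  have hρ0 : ∀ a b, b ≠ 0 → ρ a b ≠ 0 := fun a b hb => by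
    obtain ⟨i, hi⟩ := h3 a b
    rw [hi]; exact pow_ne_zero _ hb
  have hQ1 : Q - 1 ≠ 0 := by omega
  have hex : ∀ x : {x : GL (Fin n) (ZMod p) // x * g = g * x},
      ∃ y : GL (Fin n) (ZMod p), J K y = R ρ (J K g) (J K (x.1 ^ Q)) := fun x =>
    desc_unit _ (map_R (frobenius K p) (J_frob g) (J_frob _) ρ h1)
      ((Matrix.isUnit_iff_isUnit_det _).1
        (IsUnit.of_pow_eq_one (R_unit hs (ht x.1) (hc x) (J_unit _) ρ hρ0) hQ1))
  choose y hy using hex
  have hyc : ∀ (x : {x : GL (Fin n) (ZMod p) // x * g = g * x}) (z : GL (Fin n) (ZMod p)),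
      Commute z g → Commute z x.1 → Commute z (y x) := fun x z a b => by
    apply J_inj (K := K)
    rw [map_mul, map_mul, hy]
    exact (R_commute (a.map (J K)) ((b.pow_right Q).map (J K)) ρ).eq
  have hu : ∀ x : GL (Fin n) (ZMod p), (x * (x ^ Q)⁻¹) ^ Q = 1 := fun x => by
    rw [((Commute.refl x).pow_right Q).inv_right.mul_pow, inv_pow, hQ, mul_inv_cancel]
  have huc : ∀ x : {x : GL (Fin n) (ZMod p) // x * g = g * x}, Commute (x.1 * (x.1 ^ Q)⁻¹) (y x) :=
    fun x => hyc x _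
      ((show Commute x.1 g from x.2).mul_left ((show Commute x.1 g from x.2).pow_left Q).inv_left)
      ((Commute.refl x.1).mul_left ((Commute.refl x.1).pow_left Q).inv_left)
  have hyQ : ∀ x, y x ^ Q = y x := fun x => by
    apply J_inj (K := K)
    rw [map_pow, hy]
    exact R_pow hs (ht x.1) (hc x) ρ
  let κ : {x : GL (Fin n) (ZMod p) // x * g = g * x} → {x : GL (Fin n) (ZMod p) // x * g = g * x} :=
    fun x => ⟨x.1 * (x.1 ^ Q)⁻¹ * y x,
      (((show Commute x.1 g from x.2).mul_left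
        ((show Commute x.1 g from x.2).pow_left Q).inv_left).mul_left
        (hyc x g (Commute.refl g) x.2.symm).symm).eq⟩
  have hκ : ∀ x, (κ x).1 = x.1 * (x.1 ^ Q)⁻¹ * y x := fun _ => rfl
  have hκQ : ∀ x, (κ x).1 ^ Q = y x := fun x => by
    rw [hκ, (huc x).mul_pow, hu, hyQ, one_mul]
  have hinj : Function.Injective κ := fun x x' e => by
    have e1 : y x = y x' := by rw [← hκQ, ← hκQ, e]
    have e2 : x.1 ^ Q = x'.1 ^ Q := J_inj (K := K)
      (R_inj hs (ht x.1) (hc x) (ht x'.1) (hc x') ρ h2 (by rw [← hy, ← hy, e1]))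
    have e3 := congrArg Subtype.val e
    rw [hκ, hκ, e1, e2] at e3
    exact Subtype.ext (mul_right_cancel (mul_right_cancel e3))
  refine ⟨Equiv.ofBijective κ (Finite.injective_iff_bijective.1 hinj), fun x => ?_⟩
  rw [Equiv.ofBijective_apply]
  have hm1 : ∀ a b, mm (J K g) (J K (x.1 ^ Q)) (a ^ p) (b ^ p) = mm (J K g) (J K (x.1 ^ Q)) a b := by
    intro a b
    have := map_E (frobenius K p) (J_frob g) (J_frob (x.1 ^ Q)) a b
    unfold mm
    rw [← frobenius_def, ← frobenius_def, ← this]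
    exact rkM_map _ (by simpa using hn) _ ((coiE hs (ht x.1) (hc x)).idem _)
  have hm2 : ∀ b, mm (J K g) (J K (x.1 ^ Q)) 0 b = 0 := fun b => by
    simp only [mm, E, ep_zero hs (J_unit g), zero_mul, rkM_zero]
  have hm3 : ∀ a, mm (J K g) (J K (x.1 ^ Q)) a 0 = 0 := fun a => by
    simp only [mm, E, ep_zero (ht x.1) (J_unit _), mul_zero, rkM_zero]
  constructor
  · unfold Lam
    have e1 : ∀ a, D (J K (κ x).1) (J K g) a = ∏ b, ρ a b ^ mm (J K g) (J K (x.1 ^ Q)) a b := fun a => by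
      rw [← D_pow hs ((show Commute (κ x).1 g from (κ x).2).map (J K)), ← map_pow, hκQ, hy,
        D_right hs (ht x.1) (hc x)]
    simp only [D_left hs (ht x.1) (hc x), e1, ← Finset.prod_pow, ← pow_mul]
    rw [Finset.prod_comm]
    have := h4 _ hm1 hm2 hm3
    simpa only [mul_comm] using this
  · apply J_trace (K := K)
    have hu' : J K (x.1 * (x.1 ^ Q)⁻¹) ^ Q = 1 := by rw [← map_pow, hu, map_one]
    have e1 : J K x.1 = J K (x.1 * (x.1 ^ Q)⁻¹) * J K (x.1 ^ Q) := by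
      rw [← map_mul, inv_mul_cancel_right]
    have e2 : Commute (x.1 * (x.1 ^ Q)⁻¹) (x.1 ^ Q) :=
      ((Commute.refl x.1).pow_right Q).mul_left (Commute.refl _).inv_left
    rw [hκ, map_mul, trace_eq hu' (by rw [← map_pow, hyQ]) ((huc x).map (J K)), hy,
      R_trace hs (ht x.1) (hc x), h5 _ hm1 hm2 hm3, ← R_trace hs (ht x.1) (hc x) (fun _ b => b),
      R_snd hs (ht x.1), e1, trace_eq hu' (ht x.1) (e2.map (J K))]

end CL.M67
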