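import Cfsg.Agent.KGV.M67.C

set_option autoImplicit false

namespace CL.M67

open CL.KGV.Idem

variable {p : ℕ} [Fact p.Prime] {K : Type} [Field K] [Fintype K] [Algebra (ZMod p) K] {n : ℕ}

theorem nontriv [CharP K p] (l : K → ℕ)
    (h7 : ∀ a : K, a ≠ 0 → a ≠ 1 → ∃ (j : ℕ) (b : K), b ≠ 0 ∧
      (∀ k, (a ^ p ^ j) ^ p ^ k = a ^ p ^ j → b ^ p ^ k = b) ∧ b ^ l (a ^ p ^ j) ≠ 1 ∧
      ∀ i, a ^ p ^ i ≠ a ^ p ^ j → l (a ^ p ^ i) = 0)
    (g : GL (Fin n) (ZMod p)) (hg : g ^ Fintype.card K = g) (h1 : g ≠ 1) :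
    ∃ x : GL (Fin n) (ZMod p), x * g = g * x ∧ Lam l (J K g) (J K x) ≠ 1 := by
  classical
  have hs : J K g ^ Fintype.card K = J K g := by rw [← map_pow, hg]
  have hφ : ∀ a, (frobenius K p).mapMatrix (algebraMap K (Matrix (Fin n) (Fin n) K) a) =
      algebraMap K (Matrix (Fin n) (Fin n) K) (frobenius K p a) := by
    intro a
    ext i j
    by_cases hij : i = j <;> simp [Matrix.algebraMap_matrix_apply, hij]
  have hF : ∀ a, (ep (J K g) a).map (frobenius K p) = ep (J K g) (a ^ p) := fun a => by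
    have := map_ep (F := K) ((frobenius K p).mapMatrix (m := Fin n)) (fun x => frobenius K p x) hφ (J K g) a
    rw [J_frob] at this
    exact this
  obtain ⟨a, ha1, ha⟩ : ∃ a : K, a ≠ 1 ∧ ep (J K g) a ≠ 0 := by
    by_contra hcon
    push Not at hcon
    apply h1
    apply J_inj (K := K)
    rw [map_one, ← sum_ep hs, ← (coi hs).complete]
    refine Finset.sum_congr rfl fun a _ => ?_
    by_cases h : a = 1
    · rw [h, one_smul]
    · rw [hcon a h, smul_zero]
  have ha0 : a ≠ 0 := by rintro rfl; exact ha (ep_zero hs (J_unit g))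
  obtain ⟨j, b, hb0, hb1, hb2, hb3⟩ := h7 a ha0 ha1
  have hj : ∀ j : ℕ, ep (J K g) (a ^ p ^ j) ≠ 0 := by
    intro j
    induction j with
    | zero => simpa using ha
    | succ j ih =>
      rw [pow_succ, pow_mul, ← hF]
      intro h
      apply ih
      apply Matrix.map_injective (frobenius K p).injective
      simp only []
      rw [h]
      ext i k
      simp
  obtain ⟨x, hx1, hx2, hx3, hx4, hx5⟩ := CL.KGV.NT.ex p (J K g) (fun a => ep (J K g) a)
    (fun a => ((coi hs).idem a).eq) (fun a c h => (coi hs).ortho h) hF (mul_ep hs)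
    (fun a => by rw [← (commute_ep (Commute.refl (J K g)) a).eq, mul_ep hs]) (hj j) hb0 hb1
  obtain ⟨y, rfl⟩ := desc_unit x hx1 hx3
  refine ⟨y, J_inj (K := K) (by rw [map_mul, map_mul, hx2]), ?_⟩
  unfold Lam
  rw [Finset.prod_eq_single (a ^ p ^ j)]
  · unfold D
    rw [← add_sub_assoc, hx4]
    exact hb2
  · intro c _ hc
    by_cases h : ∀ k, c ≠ (a ^ p ^ j) ^ p ^ k
    · unfold D
      rw [← add_sub_assoc, hx5 c h, one_pow]
    · push Not at h
      obtain ⟨k, rfl⟩ := h
      rw [← pow_mul, ← pow_add] at hc ⊢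
      rw [hb3 _ hc, pow_zero]
  · simp

theorem fixed (l : K → ℕ) (h6 : l 1 = 0) {s x : Matrix (Fin n) (Fin n) K}
    (hs : s ^ Fintype.card K = s) (hx : x * (s - 1) = s - 1) : Lam l s x = 1 := by
  refine Finset.prod_eq_one fun a _ => ?_
  by_cases h : a = 1
  · rw [h, h6, pow_zero]
  · have e1 : (s - 1) * ep s a = (a - 1) • ep s a := by
      rw [sub_mul, mul_ep hs, one_mul, sub_smul, one_smul]
    have e2 : (a - 1) • (x * ep s a) = (a - 1) • ep s a := by
      rw [← mul_smul_comm, ← e1, ← mul_assoc, hx]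
    have e3 : x * ep s a = ep s a := smul_right_injective _ (sub_ne_zero.2 h) e2
    unfold D
    rw [e3, add_sub_cancel, Matrix.det_one, one_pow]

theorem mat (p : ℕ) [Fact p.Prime]
    (hP : ∀ (K : Type) [Field K] [Fintype K] [Algebra (ZMod p) K], PairSt p K) :
    CL.KGV.Tr.Mat p := by
  intro n
  have hp : p.Prime := Fact.out
  obtain ⟨k, hk, hk1, hk2⟩ := CL.KGV.Big.ex p (GL (Fin n) (ZMod p))
  have hk' : k * (n + 2) ≠ 0 := Nat.mul_ne_zero hk (by omega)
  let K := GaloisField p (k * (n + 2))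
  let _ : Fintype K := Fintype.ofFinite K
  have hcard : Fintype.card K = (p ^ k) ^ (n + 2) := by
    rw [← Nat.card_eq_fintype_card, GaloisField.card p _ hk', pow_mul]
  have hq : 1 < p ^ k := Nat.one_lt_pow hk hp.one_lt
  have hn : n < Fintype.card K - 1 := by
    have := Nat.lt_pow_self (n := n + 2) hq
    omega
  have hx : ∀ x : GL (Fin n) (ZMod p), x ^ Fintype.card K = x ^ p ^ k := fun x => by
    rw [hcard, pow_succ' (p ^ k), pow_mul, iter _ _ (hk1 x)]
  have hQ : ∀ x : GL (Fin n) (ZMod p), (x ^ Fintype.card K) ^ Fintype.card K = x ^ Fintype.card K :=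
    fun x => by rw [hx x, hx, hk1]
  obtain ⟨l, ρ, h1, h2, h3, h4, h5, h6, h7⟩ := hP K
  obtain ⟨ι, hι⟩ := CL.KGV.Big.iota K
  let χ : MulChar K ℂ := MulChar.ofUnitHom ι
  have ht : ∀ x : GL (Fin n) (ZMod p), J K (x ^ Fintype.card K) ^ Fintype.card K =
      J K (x ^ Fintype.card K) := fun x => by rw [← map_pow, hQ]
  have hmul : ∀ y a b : GL (Fin n) (ZMod p), b * y = y * b →
      Lam l (J K (y ^ Fintype.card K)) (J K (a * b)) =
        Lam l (J K (y ^ Fintype.card K)) (J K a) * Lam l (J K (y ^ Fintype.card K)) (J K b) :=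
    fun y a b hb => by
      rw [map_mul, Lam_mul l (ht y) ((Commute.pow_right (show Commute b y from hb) _).map (J K))]
  have hne : ∀ y a : GL (Fin n) (ZMod p), a * y = y * a →
      Lam l (J K (y ^ Fintype.card K)) (J K a) ≠ 0 := fun y a ha h0 => by
    have := hmul y a⁻¹ a ha
    rw [inv_mul_cancel, map_one, Lam_one, h0, mul_zero] at this
    exact one_ne_zero this
  refine ⟨Fintype.card K - 1, ?_, fun y a => χ (Lam l (J K (y ^ Fintype.card K)) (J K a)),
    fun y a b _ hb => ?_, fun y => ?_, fun y g a _ => ?_, fun g m hm hg => ?_⟩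
  · intro hd
    have h1' : p ∣ Fintype.card K := by
      rw [hcard]
      exact dvd_pow (dvd_pow_self p hk) (by omega)
    have h2' := (Nat.dvd_sub h1' hd)
    rw [show Fintype.card K - (Fintype.card K - 1) = 1 by omega] at h2'
    exact hp.one_lt.ne' (Nat.dvd_one.1 h2')
  · simp only []
    rw [hmul y a b hb, map_mul]
  · simp only [map_one, Lam_one]
  · simp only [conj_pow, map_mul]
    rw [Lam_conj l _ _ _ _ (by rw [← map_mul, mul_inv_cancel, map_one])
      (by rw [← map_mul, inv_mul_cancel, map_one])]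
  · have hg' : g ^ Fintype.card K = g := by rw [hx, hk2 g m hm hg]
    have hs : J K g ^ Fintype.card K = J K g := by rw [← map_pow, hg']
    refine ⟨fun x hxg => ?_, fun x _ hx1 => ?_, fun hg1 => ?_, ?_⟩
    · simp only []
      rw [← map_pow, FiniteField.pow_card_sub_one_eq_one _ (hne g x hxg), map_one]
    · simp only [hg']
      rw [fixed l h6 hs (x := J K x) (by
        have := congrArg (J0 K) hx1
        rwa [map_mul, map_sub, map_one] at this), map_one]
    · obtain ⟨x, hx1, hx2⟩ := nontriv l h7 g hg' hg1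
      refine ⟨x, hx1, fun h => hx2 ?_⟩
      have h0 := hne g x hx1
      simp only [hg'] at h h0
      have e : χ (Units.mk0 _ h0 : Kˣ) = 1 := h
      rw [MulChar.ofUnitHom_coe] at e
      have e2 : ι (Units.mk0 _ h0) = ι 1 := by rw [map_one]; exact Units.ext e
      exact congrArg Units.val (hι e2)
    · obtain ⟨r, hr⟩ := reindex hn l ρ h1 h2 h3 h4 h5 hQ g hg'
      exact ⟨r, fun x => ⟨by simp only [hg', (hr x).1], (hr x).2⟩⟩

end CL.M67
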