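import Cfsg.Agent.KGV.M67.D
import Cfsg.Agent.KGV.Jx

set_option autoImplicit false

namespace CL.M67

theorem prodU {K M : Type*} [Field K] [Fintype K] [DecidableEq K] [CommMonoid M] (f : K → M)
    (h : f 0 = 1) : ∏ a, f a = ∏ u : Kˣ, f u := by
  rw [← Finset.prod_erase (a := (0 : K)) Finset.univ h]
  symm
  refine Finset.prod_bij (fun u _ => (u : K)) (fun u _ => by simp) (fun u _ v _ e => Units.ext e)
    (fun a ha => ⟨Units.mk0 a (Finset.ne_of_mem_erase ha), Finset.mem_univ _, rfl⟩) fun _ _ => rfl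

theorem pair (p : ℕ) [Fact p.Prime] (K : Type) [Field K] [Fintype K] [Algebra (ZMod p) K] :
    PairSt p K := by
  classical
  have hp : p.Prime := Fact.out
  have : CharP K p := charP_of_injective_algebraMap (algebraMap (ZMod p) K).injective p
  obtain ⟨N, -, hN⟩ := FiniteField.card K p
  obtain ⟨w, j, h1, h2, h3, h4, h5⟩ := CL.KGV.Jx.ex (C := Kˣ) (p := p) (N := N) hp.two_le N.2
    (by rw [Fintype.card_units, hN])
  have hinj : ∀ (k : ℕ) (a b : K), a ^ p ^ k = b ^ p ^ k → a = b := fun k a b h =>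
    (iterateFrobenius K p k).injective h
  let l : K → ℕ := fun c => if h : c = 0 then 0 else w (Units.mk0 c h)
  let i : K → K → ℕ := fun a b =>
    if h : a = 0 ∨ b = 0 then 0 else j (Units.mk0 a (not_or.1 h).1) (Units.mk0 b (not_or.1 h).2)
  have hl : ∀ u : Kˣ, l u = w u := fun u => by simp [l]
  have hi : ∀ u v : Kˣ, i u v = j u v := fun u v => by simp [i]
  have hi0 : ∀ b, i 0 b = 0 := fun b => by simp [i]
  have hi0' : ∀ a, i a 0 = 0 := fun a => by simp [i]
  have hiF : ∀ a b, i (a ^ p) (b ^ p) = i a b := fun a b => by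
    by_cases ha : a = 0
    · rw [ha, zero_pow hp.ne_zero, hi0, hi0]
    by_cases hb : b = 0
    · rw [hb, zero_pow hp.ne_zero, hi0', hi0']
    have := h1 (Units.mk0 a ha) (Units.mk0 b hb)
    rw [← hi, ← hi] at this
    simpa using this
  have hiF' : ∀ (k : ℕ) a b, i (a ^ p ^ k) (b ^ p ^ k) = i a b := fun k a b => by
    induction k with
    | zero => simp
    | succ k ih => rw [pow_succ, pow_mul, pow_mul, hiF, ih]
  refine ⟨l, fun a b => b ^ p ^ i a b, fun a b => ?_, fun a b c e => ?_, fun a b => ⟨_, rfl⟩,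
    fun m m1 m2 m3 => ?_, fun m m1 _ _ => ?_, ?_, fun a ha0 ha1 => ?_⟩
  · simp only [hiF]
    rw [← pow_mul, ← pow_mul, mul_comm]
  · simp only [] at e
    by_cases ha : a = 0
    · simpa [ha, hi0] using e
    by_cases hb : b = 0
    · rw [hb, zero_pow (pow_ne_zero _ hp.ne_zero)] at e
      rw [hb, pow_eq_zero_iff (pow_ne_zero _ hp.ne_zero) |>.1 e.symm]
    by_cases hc : c = 0
    · rw [hc, zero_pow (pow_ne_zero _ hp.ne_zero)] at e
      exact absurd (pow_eq_zero_iff (pow_ne_zero _ hp.ne_zero) |>.1 e) hb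
    have := @h2 (Units.mk0 a ha) (Units.mk0 b hb) (Units.mk0 c hc) (Units.ext (by
      simp only [← hi, Units.val_pow_eq_pow_val, Units.val_mk0]
      exact e))
    exact congrArg Units.val this
  · have := congrArg Units.val (h3 (fun u v => m u v) fun u v => by simpa using m1 u v)
    simp only [Units.coe_prod, Units.val_pow_eq_pow_val, ← hl, ← hi] at this
    rw [prodU _ (by simp [m2]), prodU (fun a => ∏ b, (b ^ p ^ i a b) ^ (l a * m a b)) (by simp [m2])]
    rw [Finset.prod_congr rfl fun (u : Kˣ) _ => prodU (fun b => (u : K) ^ (l b * m u b)) (by simp [m3]),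
      Finset.prod_congr rfl fun (u : Kˣ) _ =>
        prodU (fun b => (b ^ p ^ i u b) ^ (l u * m u b)) (by simp [m3])]
    exact this
  · have m1' : ∀ (k : ℕ) a b, m (a ^ p ^ k) (b ^ p ^ k) = m a b := fun k a b => by
      induction k with
      | zero => simp
      | succ k ih => rw [pow_succ, pow_mul, pow_mul, m1, ih]
    let Φ : K × K → K × K := fun x => (x.1 ^ p ^ i x.1 x.2, x.2 ^ p ^ i x.1 x.2)
    have hΦ : Function.Injective Φ := fun x y e => by
      have e1 : x.1 ^ p ^ i x.1 x.2 = y.1 ^ p ^ i y.1 y.2 := congrArg Prod.fst e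
      have e2 : x.2 ^ p ^ i x.1 x.2 = y.2 ^ p ^ i y.1 y.2 := congrArg Prod.snd e
      have e3 : i x.1 x.2 = i y.1 y.2 := by
        rw [← hiF' (i x.1 x.2) x.1 x.2, ← hiF' (i y.1 y.2) y.1 y.2, e1, e2]
      rw [e3] at e1 e2
      exact Prod.ext (hinj _ _ _ e1) (hinj _ _ _ e2)
    rw [← Fintype.sum_prod_type', ← Fintype.sum_prod_type']
    refine Fintype.sum_bijective Φ (Finite.injective_iff_bijective.1 hΦ) _ _ fun x => ?_
    simp only [Φ, m1']
  · rw [← h4, ← hl, Units.val_one]
  · obtain ⟨k, b, b1, b2, b3⟩ := h5 (Units.mk0 a ha0)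
    refine ⟨k, b, b.ne_zero, fun r hr => ?_, fun h => ha1 ?_, fun r hr => ?_⟩
    · have e : a ^ p ^ r = a := hinj k _ _ (by rw [← pow_mul, mul_comm, pow_mul, hr])
      exact congrArg Units.val (b1 r (Units.ext e))
    · have e := congrArg Units.val b2
      simp only [Units.val_pow_eq_pow_val, Units.val_mk0, ← hl] at e
      rw [e] at h
      exact hinj k _ _ (by rw [h, one_pow])
    · have e := b3 r fun h => hr (congrArg Units.val h)
      rw [← hl] at e
      exact e

theorem matP (p : ℕ) [Fact p.Prime] : CL.KGV.Tr.Mat p := mat p fun K _ _ _ => pair p K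

end CL.M67
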